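/-
Flatness of the total-fraction base change and of its local rings.
-/
import Mathlib.RingTheory.Ideal.AssociatedPrime.Basic
import Mathlib.RingTheory.Ideal.AssociatedPrime.Localization
import Mathlib.RingTheory.Flat.Localization
import Mathlib.RingTheory.Flat.Stability
import Mathlib.RingTheory.Localization.LocalizationLocalization
import Mathlib.RingTheory.Localization.FractionRing
import Mathlib.RingTheory.Localization.AtPrime.Basic
import Mathlib.RingTheory.TensorProduct.Basic
import Mathlib.Algebra.Module.LocalizedModule.IsLocalization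
import Mathlib.RingTheory.Ideal.GoingUp
import Mathlib.RingTheory.Ideal.AssociatedPrime.Finiteness
import Mathlib.RingTheory.Ideal.HasGoingUp

set_option autoImplicit false
universe u
open scoped TensorProduct

namespace Groth.Agent.AssFlat

variable (A B : Type u) [CommRing A] [CommRing B] [Algebra A B]

/-- `B` localized at the image of the nonzerodivisors of `A`. -/
abbrev TotLoc := Localization (Algebra.algebraMapSubmonoid B (nonZeroDivisors A))

noncomputable def tensorEquiv :
    FractionRing A ⊗[A] B ≃ₗ[FractionRing A] TotLoc A B :=
  ((isLocalizedModule_iff_isBaseChange (nonZeroDivisors A) (FractionRing A)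
    (IsScalarTower.toAlgHom A B (TotLoc A B)).toLinearMap).1 inferInstance).equiv

theorem flat_totLoc_iff :
    Module.Flat (FractionRing A) (FractionRing A ⊗[A] B) ↔ Module.Flat A (TotLoc A B) := by
  constructor
  · intro h
    have : Module.Flat (FractionRing A) (TotLoc A B) := .of_linearEquiv (tensorEquiv A B).symm
    have : Module.Flat A (FractionRing A) := IsLocalization.flat _ (nonZeroDivisors A)
    exact Module.Flat.trans A (FractionRing A) _
  · intro h
    have : Module.Flat (FractionRing A) (TotLoc A B) :=
      (Module.flat_iff_of_isLocalization (FractionRing A) (nonZeroDivisors A) (TotLoc A B)).2 h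
    exact .of_linearEquiv (tensorEquiv A B)

theorem flat_atPrime_of_totLoc (h : Module.Flat A (TotLoc A B)) (q : Ideal B) [q.IsPrime]
    (hq : ∀ a ∈ nonZeroDivisors A, algebraMap A B a ∉ q) :
    Module.Flat A (Localization.AtPrime q) := by
  set N := Algebra.algebraMapSubmonoid B (nonZeroDivisors A)
  have hle : N ≤ q.primeCompl := by
    rintro _ ⟨a, ha, rfl⟩
    exact hq a ha
  let g : TotLoc A B →+* Localization.AtPrime q := IsLocalization.lift (M := N) (g := algebraMap B _)
    (fun y => IsLocalization.map_units (M := q.primeCompl) (Localization.AtPrime q) ⟨y.1, hle y.2⟩)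
  letI : Algebra (TotLoc A B) (Localization.AtPrime q) := g.toAlgebra
  have : IsScalarTower B (TotLoc A B) (Localization.AtPrime q) :=
    IsScalarTower.of_algebraMap_eq (fun x => (IsLocalization.lift_eq _ x).symm)
  have : IsScalarTower A (TotLoc A B) (Localization.AtPrime q) :=
    IsScalarTower.of_algebraMap_eq (fun x => by
      rw [IsScalarTower.algebraMap_apply A B (Localization.AtPrime q),
        IsScalarTower.algebraMap_apply A B (TotLoc A B)]
      exact IsScalarTower.algebraMap_apply B (TotLoc A B) (Localization.AtPrime q) _)
  have := IsLocalization.isLocalization_of_submonoid_le (TotLoc A B) (Localization.AtPrime q) N _ hle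
  have : Module.Flat (TotLoc A B) (Localization.AtPrime q) :=
    IsLocalization.flat _ (q.primeCompl.map (algebraMap B (TotLoc A B)))
  exact Module.Flat.trans A (TotLoc A B) _

theorem notMem_of_isAssociatedPrime [IsNoetherianRing A] {p : Ideal A} (hp : IsAssociatedPrime p A)
    {a : A} (ha : a ∈ nonZeroDivisors A) : a ∉ p := by
  intro h
  have h' : a ∈ ⋃ p ∈ associatedPrimes A A, (p : Set A) := Set.mem_biUnion hp h
  rw [biUnion_associatedPrimes_eq_compl_nonZeroDivisors] at h'
  exact h' ha

theorem flat_totLoc [IsNoetherianRing A] [Algebra.HasGoingUp A B]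
    (h4 : ∀ (q : Ideal B) [q.IsPrime], IsAssociatedPrime (q.comap (algebraMap A B)) A →
      Module.Flat A (Localization.AtPrime q)) : Module.Flat A (TotLoc A B) := by
  set N := Algebra.algebraMapSubmonoid B (nonZeroDivisors A)
  apply Module.flat_of_isLocalized_maximal (TotLoc A B) (TotLoc A B)
    (fun P _ => Localization.AtPrime P) (fun P _ => Algebra.linearMap _ _)
  intro P hP
  set q := P.comap (algebraMap B (TotLoc A B)) with hqdef
  have hq : ∀ a ∈ nonZeroDivisors A, algebraMap A B a ∉ q := by
    intro a ha h
    exact hP.ne_top (Ideal.eq_top_of_isUnit_mem _ h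
      (IsLocalization.map_units (M := N) _ ⟨_, Algebra.mem_algebraMapSubmonoid_of_mem ⟨a, ha⟩⟩))
  -- `q ∩ A` is an associated prime
  have hass : IsAssociatedPrime (q.comap (algebraMap A B)) A := by
    have hsub : (↑(q.comap (algebraMap A B)) : Set A) ⊆ ⋃ p ∈ ((associatedPrimes.finite A A).toFinset : Set (Ideal A)), (p : Set A) := by
      simp only [Set.Finite.coe_toFinset]
      rw [biUnion_associatedPrimes_eq_compl_nonZeroDivisors]
      intro a ha h; exact hq a h ha
    obtain ⟨p, hp, hle⟩ := (Ideal.subset_union_prime ⊥ ⊥ (fun p hp _ _ =>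
      IsAssociatedPrime.isPrime ((Set.Finite.mem_toFinset _).1 hp))).1 hsub
    rw [Set.Finite.mem_toFinset] at hp
    have := IsAssociatedPrime.isPrime hp
    have hl : q.LiesOver (q.comap (algebraMap A B)) := ⟨rfl⟩
    obtain ⟨q', hqq', hq'P, hq'L⟩ := Ideal.exists_ideal_ge_liesOver_of_le (S := B) q hle
    have hd : Disjoint (N : Set B) q' := by
      rw [Set.disjoint_left]
      rintro _ ⟨a, ha, rfl⟩ h
      exact notMem_of_isAssociatedPrime A hp ha (hq'L.over.symm ▸ h)
    have hprime : (q'.map (algebraMap B (TotLoc A B))).IsPrime :=
      IsLocalization.isPrime_of_isPrime_disjoint N _ q' hq'P hd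
    have hPle : P ≤ q'.map (algebraMap B (TotLoc A B)) := by
      rw [← IsLocalization.map_under N (TotLoc A B) P]
      exact Ideal.map_mono hqq'
    have hPe := hP.eq_of_le hprime.ne_top hPle
    have : q = q' := by
      rw [hqdef, hPe]
      exact IsLocalization.under_map_of_isPrime_disjoint N _ hq'P hd
    rw [this, show q'.comap (algebraMap A B) = p from hq'L.over.symm]
    exact hp
  have := h4 q hass
  have : IsLocalization.AtPrime (Localization.AtPrime P) q :=
    IsLocalization.isLocalization_isLocalization_atPrime_isLocalization N _ P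
  exact .of_linearEquiv
    (((IsLocalization.algEquiv q.primeCompl (Localization.AtPrime q) (Localization.AtPrime P)).restrictScalars A).toLinearEquiv.symm)

end Groth.Agent.AssFlat
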